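import Groth.Agent.ProjSerre.Lcm
import Groth.Agent.InvX.BilinIso
import Groth.Agent.GrModX.FiniteShift
import Groth.Agent.S3546
import Groth.Agent.QCoh.RpushModel
import Groth.Agent.GrModX.MapProps
import Groth.Agent.AmpleVan.Uniform

/-!
# Serre vanishing on the homogeneous spectrum of a Noetherian graded ring
-/

set_option autoImplicit false
set_option linter.style.haveILetI false
set_option backward.isDefEq.respectTransparency false
set_option backward.isDefEq.respectTransparency.types false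
set_option maxHeartbeats 1000000

universe u

open CategoryTheory CategoryTheory.Limits AlgebraicGeometry TopologicalSpace Opposite MonoidalCategory

noncomputable section

namespace Groth.Agent.ProjSerre

open Groth.Agent Groth.Agent.H23.PicMul

variable {R A : Type u} [CommRing R] [CommRing A] [Algebra R A] {𝒜 : ℕ → Submodule R A} [GradedAlgebra 𝒜]

/-- The product of two sections, with the degree of the result given. -/
def mulTo {a b c : ℤ} (h : a + b = c) {U : Opens (ProjectiveSpectrum.top 𝒜)}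
    (s : Twist.sectN (𝒜 := 𝒜) a (op U)) (t : Twist.sectN (𝒜 := 𝒜) b (op U)) : Twist.sectN (𝒜 := 𝒜) c (op U) :=
  h ▸ PnCoh.Finite.mulSect a b s t

theorem val_mulTo {a b c : ℤ} (h : a + b = c) {U : Opens (ProjectiveSpectrum.top 𝒜)}
    (s : Twist.sectN (𝒜 := 𝒜) a (op U)) (t : Twist.sectN (𝒜 := 𝒜) b (op U)) (x : U) :
    (((mulTo h s t).1 x).1 : Twist.Loc 𝒜 x.1) = (s.1 x).1 * (t.1 x).1 := by
  subst h; rfl

theorem sect_ext {a : ℤ} {U : Opens (ProjectiveSpectrum.top 𝒜)} {s t : Twist.sectN (𝒜 := 𝒜) a (op U)}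
    (h : ∀ x : U, (s.1 x).1 = (t.1 x).1) : s = t :=
  Subtype.ext (funext fun x => Subtype.ext (h x))

/-- Multiplication `O(a) × O(b) → O(a + b)`. -/
def mulBilin (a b : ℤ) : H23.TensorDesc.Bilin (Twist.twist 𝒜 a) (Twist.twist 𝒜 b) (Twist.twist 𝒜 (a + b)) where
  b U s t := PnCoh.Finite.mulSect a b s t
  add_left U s s' t := Subtype.ext (funext fun x => Subtype.ext (add_mul (s.1 x).1 (s'.1 x).1 (t.1 x).1))
  smul_left U r s t := PnCoh.Finite.mulSect_smul_left a b r s t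
  add_right U s t t' := Subtype.ext (funext fun x => Subtype.ext (mul_add (s.1 x).1 (t.1 x).1 (t'.1 x).1))
  smul_right U r s t := PnCoh.Finite.mulSect_smul_right a b r s t
  res _ _ _ := rfl

/-- The inverse fraction. -/
def unitFracInv {a : ℤ} {U : Opens (ProjectiveSpectrum.top 𝒜)} (φ : TwistX.UnitFrac (𝒜 := 𝒜) a U) :
    TwistX.UnitFrac (𝒜 := 𝒜) (-a) U where
  i := φ.j
  j := φ.i
  num := φ.den
  den := φ.num
  num_mem := φ.den_mem
  den_mem := φ.num_mem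
  deg := by have := φ.deg; omega
  num_ne := φ.den_ne
  den_ne := φ.num_ne

theorem frac_mul_inv {a : ℤ} {U : Opens (ProjectiveSpectrum.top 𝒜)} (φ : TwistX.UnitFrac (𝒜 := 𝒜) a U) (x : U) :
    ((TwistX.fracSect (unitFracInv φ)).1 x).1 * ((TwistX.fracSect φ).1 x).1 = 1 := by
  show Localization.mk φ.den ⟨φ.num, φ.num_ne x⟩ * Localization.mk φ.num ⟨φ.den, φ.den_ne x⟩ = _
  rw [Localization.mk_mul, ← Localization.mk_one, Localization.mk_eq_mk_iff, Localization.r_iff_exists]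
  exact ⟨1, by simp [mul_comm]⟩

section Cover

variable {l : ℕ} {κ : Type*} (g : κ → A) (hg : ∀ j, g j ∈ 𝒜 l) (hl : 0 < l)
  (hcov : ⨆ j, Proj.basicOpen 𝒜 (g j) = ⊤)

include hg hl hcov in
theorem nonempty_tensor_iso_right (m k : ℤ) :
    Nonempty (CohB1.tensorMod (Twist.twist 𝒜 m) (Twist.twist 𝒜 (k * l)) ≅ Twist.twist 𝒜 (m + k * l)) := by
  refine ⟨@asIso _ _ _ _ (H23.TensorDesc.desc (mulBilin (𝒜 := 𝒜) m (k * l)))
    (InvX.isIso_desc_of_frames (S3546.result 𝒜 m) (S3546.result 𝒜 _) _ fun V x hx => ?_)⟩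
  obtain ⟨j, hj⟩ := Opens.mem_iSup.1 (hcov.ge (trivial : x ∈ (⊤ : (Proj 𝒜).Opens)))
  obtain ⟨f, d, hd, hf, hxf, hfV⟩ := GrModX.exists_basicOpen_le 𝒜 (V := V) (y := x) hx
  have hW : IsAffineOpen (Proj.basicOpen 𝒜 (f * g j)) :=
    Proj.isAffineOpen_basicOpen 𝒜 _ (SetLike.mul_mem_graded hf (hg j)) (by omega)
  have hWg : Proj.basicOpen 𝒜 (f * g j) ≤ Proj.basicOpen 𝒜 (g j) := fun z hz hzg =>
    hz (Ideal.mul_mem_left _ _ hzg)
  let φ := (powFrac g hg k j).res hWg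
  refine ⟨Proj.basicOpen 𝒜 (f * g j), TwistX.fracSect φ,
    fun z hz => hfV fun hzf => hz (Ideal.mul_mem_right _ _ hzf),
    fun h => (x.isPrime.mem_or_mem h).elim hxf hj, hW, TwistX.isFrame_fracSect φ, ?_, ?_⟩
  · intro s s' hss
    refine sect_ext fun y => ?_
    have h : (((show Twist.sectN (𝒜 := 𝒜) m (op (Proj.basicOpen 𝒜 (f * g j))) from s).1 y).1) *
        ((TwistX.fracSect φ).1 y).1 =
        (((show Twist.sectN (𝒜 := 𝒜) m (op (Proj.basicOpen 𝒜 (f * g j))) from s').1 y).1) *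
        ((TwistX.fracSect φ).1 y).1 := congrArg (fun q => (q.1 y).1) hss
    have h' := congrArg (· * ((TwistX.fracSect (unitFracInv φ)).1 y).1) h
    simp only [mul_assoc] at h'
    rw [mul_comm ((TwistX.fracSect φ).1 y).1, frac_mul_inv, mul_one, mul_one] at h'
    exact h'
  · intro t
    refine ⟨mulTo (show (m + k * l) + -(k * l) = m by ring)
      (show Twist.sectN (𝒜 := 𝒜) (m + k * l) (op (Proj.basicOpen 𝒜 (f * g j))) from t) (TwistX.fracSect (unitFracInv φ)),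
      sect_ext fun y => ?_⟩
    show ((mulTo _ _ (TwistX.fracSect (unitFracInv φ))).1 y).1 * ((TwistX.fracSect φ).1 y).1 = _
    rw [val_mulTo, mul_assoc, frac_mul_inv, mul_one]

end Cover

variable (𝒜) in
theorem irrelevant_fg [IsNoetherianRing A] : (HomogeneousIdeal.irrelevant 𝒜).toIdeal.FG :=
  IsNoetherian.noetherian _

variable (𝒜) in
/-- The twisting sheaves of a Noetherian graded ring are coherent. -/
theorem isCoh_twist [IsNoetherianRing A] (n : ℤ) : Coh.IsCoh (Twist.twist 𝒜 n) := by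
  refine ⟨S3546.result 𝒜 n, GrModX.isFT_tilde_shift 𝒜 𝒜 (irrelevant_fg 𝒜) n 0 (IsNoetherian.noetherian _)⟩

variable (𝒜) in
theorem isNoetherianRing_zero [IsNoetherianRing A] : IsNoetherianRing (𝒜 0) :=
  isNoetherianRing_of_surjective A (𝒜 0) (GradedRing.projZeroRingHom' 𝒜) fun a =>
    ⟨a, GradedRing.projZeroRingHom'_apply_coe 𝒜 a⟩

/-- Serre vanishing for the twists. -/
theorem exists_vanishing_twistBy [IsNoetherianRing A] {F : (Proj 𝒜).Modules} (hF : Coh.IsCoh F) :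
    ∃ d₀ : ℤ, ∀ d : ℤ, d₀ ≤ d → ∀ p : ℕ, Subsingleton (Coh.HH (Proj 𝒜) (Twist.twistBy 𝒜 F d) (p + 1)) := by
  classical
  obtain ⟨l, hl, _, hcov⟩ := exists_cover 𝒜
  let g : 𝒜 l → A := fun h => h
  have hg : ∀ j, g j ∈ 𝒜 l := fun j => j.2
  have hamp := H9Twist.isAmple hl hcov
  haveI := isNoetherianRing_zero 𝒜
  haveI := (Proj16.irrelevant_fg_iff 𝒜).mp (irrelevant_fg 𝒜)
  letI : (Proj 𝒜).Over (Spec (CommRingCat.of (𝒜 0))) := ⟨Proj.toSpecZero 𝒜⟩
  haveI : IsProper (Proj 𝒜 ↘ Spec (CommRingCat.of (𝒜 0))) := inferInstanceAs (IsProper (Proj.toSpecZero 𝒜))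
  haveI : IsLocallyNoetherian (Proj 𝒜) :=
    LocallyOfFiniteType.isLocallyNoetherian (Proj 𝒜 ↘ Spec (CommRingCat.of (𝒜 0)))
  choose N hN using fun r : Fin l => AmpleVan.exists_vanishing (A := (𝒜 0)) hamp
    (AmpleVan.isCoh_tensor hF (isCoh_twist 𝒜 (r : ℤ)))
  refine ⟨((Finset.univ.sup N + 1 : ℕ) : ℤ) * l, fun d hd p => ?_⟩
  have hl0 : (0 : ℤ) < l := by exact_mod_cast hl
  have hr0 : 0 ≤ d % (l : ℤ) := Int.emod_nonneg _ hl0.ne'
  have hrl : d % (l : ℤ) < l := Int.emod_lt_of_pos _ hl0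
  let r : Fin l := ⟨(d % (l : ℤ)).toNat, by omega⟩
  have hk : ((Finset.univ.sup N + 1 : ℕ) : ℤ) ≤ d / (l : ℤ) := (Int.le_ediv_iff_mul_le hl0).2 hd
  have hd' : d = (r : ℕ) + ((d / (l : ℤ)).toNat : ℤ) * l := by
    show d = ((d % (l : ℤ)).toNat : ℤ) + _
    rw [Int.toNat_of_nonneg hr0, Int.toNat_of_nonneg (by omega), mul_comm]
    exact (Int.emod_add_mul_ediv d l).symm
  obtain ⟨e⟩ : Nonempty (CohB1.tensorMod (CohB1.tensorMod F (Twist.twist 𝒜 ((r : ℕ) : ℤ)))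
      (CohB1.tensorPow (Twist.twist 𝒜 (l : ℤ)) (d / (l : ℤ)).toNat) ≅ Twist.twistBy 𝒜 F d) := by
    obtain ⟨e⟩ := nonempty_tensor_iso_right g hg hl hcov ((r : ℕ) : ℤ) ((d / (l : ℤ)).toNat : ℤ)
    have h1 := cl_eq_iff.2 ⟨e⟩
    rw [cl_tensor, ← hd'] at h1
    refine cl_eq_iff.1 ?_
    show _ = PicF.cl (CohB1.tensorMod F (Twist.twist 𝒜 d))
    rw [cl_tensor, cl_tensor, cl_tensor, cl_tensorPow, cl_pow g hg hcov, mul_assoc, h1]
  haveI := hN r (d / (l : ℤ)).toNat (by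
    have := Finset.le_sup (f := N) (Finset.mem_univ r)
    omega) p
  exact (QCoh.HHcongr (Coh.toGlobal (Proj.toSpecZero 𝒜)) e (p + 1)).symm.toEquiv.subsingleton

end Groth.Agent.ProjSerre

end
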