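import Groth.Agent.PnCoh.Finite.TwistTensor
import Groth.Agent.PnCoh.Finite.TwistInv
import Groth.Agent.H9Twist.Lcm
import Groth.Agent.TwistX.Global
import Groth.Agent.DivX.MeroMod
import Groth.Agent.H23.PicMul
import Groth.Agent.AmpleX.Generated
import Groth.Agent.InvX.GenEpi
import Groth.Agent.KFlatLib.Scheme.InnerHom

/-!
# The twists by multiples of a covering degree
-/

set_option autoImplicit false
set_option linter.style.haveILetI false
set_option backward.isDefEq.respectTransparency false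
set_option backward.isDefEq.respectTransparency.types false
set_option maxHeartbeats 1000000

universe u

open CategoryTheory CategoryTheory.Limits AlgebraicGeometry TopologicalSpace Opposite MonoidalCategory

noncomputable section

namespace Groth.Agent.ProjSerre

open Groth.Agent Groth.Agent.H23.PicMul

variable {R A : Type u} [CommRing R] [CommRing A] [Algebra R A] {𝒜 : ℕ → Submodule R A} [GradedAlgebra 𝒜]

theorem tensor_one_left {X : Scheme.{u}} (M : X.Modules) :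
    Nonempty (CohB1.tensorMod (Coh.structureModule X) M ≅ M) :=
  cl_eq_iff.1 (by rw [cl_tensor, ← one_def, one_mul])

/-- The product of two invertible fractions. -/
def unitFracMul {a b : ℤ} {U : Opens (ProjectiveSpectrum.top 𝒜)} (φ : TwistX.UnitFrac (𝒜 := 𝒜) a U)
    (ψ : TwistX.UnitFrac (𝒜 := 𝒜) b U) : TwistX.UnitFrac (𝒜 := 𝒜) (a + b) U where
  i := φ.i + ψ.i
  j := φ.j + ψ.j
  num := φ.num * ψ.num
  den := φ.den * ψ.den
  num_mem := SetLike.mul_mem_graded φ.num_mem ψ.num_mem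
  den_mem := SetLike.mul_mem_graded φ.den_mem ψ.den_mem
  deg := by have := φ.deg; have := ψ.deg; push_cast; omega
  num_ne := fun x => TwistX.mul_notMem (φ.num_ne x) (ψ.num_ne x)
  den_ne := fun x => TwistX.mul_notMem (φ.den_ne x) (ψ.den_ne x)

theorem mulSect_fracSect {a b : ℤ} {U : Opens (ProjectiveSpectrum.top 𝒜)} (φ : TwistX.UnitFrac (𝒜 := 𝒜) a U)
    (ψ : TwistX.UnitFrac (𝒜 := 𝒜) b U) :
    PnCoh.Finite.mulSect a b (TwistX.fracSect φ) (TwistX.fracSect ψ) = TwistX.fracSect (unitFracMul φ ψ) := by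
  refine Subtype.ext (funext fun x => Subtype.ext ?_)
  show Localization.mk φ.num ⟨φ.den, φ.den_ne x⟩ * Localization.mk ψ.num ⟨ψ.den, ψ.den_ne x⟩ = _
  rw [Localization.mk_mul]
  rfl

theorem mulHom_app_tmul (a b : ℤ) {U : (Proj 𝒜).Opens} (s : Γ(Twist.twist 𝒜 a, U))
    (t : Γ(Twist.twist 𝒜 b, U)) :
    (PnCoh.Finite.mulHom (𝒜 := 𝒜) a b).app U (InvX.tmul s t) = PnCoh.Finite.mulSect a b s t := by
  have h : KFlatLib.unitShP (DCoh.toP.obj (Twist.twist 𝒜 a) ⊗ DCoh.toP.obj (Twist.twist 𝒜 b)) ≫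
      DCoh.toP.map (PnCoh.Finite.mulHom (𝒜 := 𝒜) a b) = PnCoh.Finite.mulPre a b :=
    ((PresheafOfModules.sheafificationAdjunction (𝟙 (Proj 𝒜).ringCatSheaf.obj)).homEquiv_unit
      (f := PnCoh.Finite.mulHom a b)).symm.trans (Equiv.apply_symm_apply _ _)
  exact (congr(($h).app (op U) (KFlatLib.tm s t))).trans (PnCoh.Finite.mulPre_tm a b s t)

section Cover

variable {l : ℕ} {κ : Type*} (g : κ → A) (hg : ∀ j, g j ∈ 𝒜 l) (hcov : ⨆ j, Proj.basicOpen 𝒜 (g j) = ⊤)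

/-- The fraction of degree `k * l`. -/
def powFrac (k : ℤ) (j : κ) : TwistX.UnitFrac (𝒜 := 𝒜) (k * l) (Proj.basicOpen 𝒜 (g j)) where
  i := k.toNat * l
  j := (-k).toNat * l
  num := g j ^ k.toNat
  den := g j ^ (-k).toNat
  num_mem := by simpa using SetLike.pow_mem_graded k.toNat (hg j)
  den_mem := by simpa using SetLike.pow_mem_graded (-k).toNat (hg j)
  deg := by
    have h : (k.toNat : ℤ) = ((-k).toNat : ℤ) + k := by omega
    push_cast
    rw [h, add_mul]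
  num_ne := fun x h => x.2 (x.1.isPrime.mem_of_pow_mem _ h)
  den_ne := fun x h => x.2 (x.1.isPrime.mem_of_pow_mem _ h)

include hg hcov in
theorem isInvertible (k : ℤ) : PicF.IsInvertible (Twist.twist 𝒜 (k * l)) :=
  InvX.isInvertible_of_frames fun x => by
    obtain ⟨j, hj⟩ := Opens.mem_iSup.1 (hcov.ge (trivial : x ∈ (⊤ : (Proj 𝒜).Opens)))
    exact ⟨_, hj, _, TwistX.isFrame_fracSect (powFrac g hg k j)⟩

include hg hcov in
theorem nonempty_tensor_iso (k k' : ℤ) :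
    Nonempty (CohB1.tensorMod (Twist.twist 𝒜 (k * l)) (Twist.twist 𝒜 (k' * l)) ≅
      Twist.twist 𝒜 (k * l + k' * l)) := by
  haveI : IsIso (show CohB1.tensorMod (Twist.twist 𝒜 (k * l)) (Twist.twist 𝒜 (k' * l)) ⟶
      Twist.twist 𝒜 (k * l + k' * l) from PnCoh.Finite.mulHom (𝒜 := 𝒜) (k * l) (k' * l)) := by
    refine DivX.isIso_of_frames _ fun x => ?_
    obtain ⟨j, hj⟩ := Opens.mem_iSup.1 (hcov.ge (trivial : x ∈ (⊤ : (Proj 𝒜).Opens)))
    refine ⟨Proj.basicOpen 𝒜 (g j), hj, InvX.tmul (TwistX.fracSect (powFrac g hg k j)) (TwistX.fracSect (powFrac g hg k' j)),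
      InvX.isFrame_tmul (TwistX.isFrame_fracSect _) (TwistX.isFrame_fracSect _), ?_⟩
    have h := (mulHom_app_tmul (𝒜 := 𝒜) (k * l) (k' * l) (TwistX.fracSect (powFrac g hg k j))
      (TwistX.fracSect (powFrac g hg k' j))).trans (mulSect_fracSect _ _)
    exact h.symm ▸ TwistX.isFrame_fracSect _
  exact ⟨asIso (show CohB1.tensorMod (Twist.twist 𝒜 (k * l)) (Twist.twist 𝒜 (k' * l)) ⟶
      Twist.twist 𝒜 (k * l + k' * l) from PnCoh.Finite.mulHom (𝒜 := 𝒜) (k * l) (k' * l))⟩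

variable (𝒜) in
theorem nonempty_zero_iso : Nonempty (Twist.twist 𝒜 0 ≅ Coh.structureModule (Proj 𝒜)) := by
  let φ : TwistX.UnitFrac (𝒜 := 𝒜) 0 (⊤ : Opens (ProjectiveSpectrum.top 𝒜)) :=
    { i := 0, j := 0, num := 1, den := 1, num_mem := SetLike.GradedOne.one_mem,
      den_mem := SetLike.GradedOne.one_mem, deg := by simp,
      num_ne := fun x h => x.1.isPrime.ne_top ((Ideal.eq_top_iff_one _).mpr h),
      den_ne := fun x h => x.1.isPrime.ne_top ((Ideal.eq_top_iff_one _).mpr h) }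
  let e : Γ(Twist.twist 𝒜 0, (⊤ : (Proj 𝒜).Opens)) := TwistX.fracSect φ
  have he : InvX.IsFrame e := TwistX.isFrame_fracSect φ
  haveI : IsIso (InvX.ofSect e) := DivX.isIso_of_frames _ fun x =>
    ⟨⊤, trivial, InvX.one (𝟙 (Coh.structureModule (Proj 𝒜))), InvX.isFrame_one ⊤, by
      have h := InvX.one_ofSect e
      show InvX.IsFrame (InvX.one (InvX.ofSect e))
      rw [h]
      exact he⟩
  exact ⟨(asIso (InvX.ofSect e)).symm⟩

include hg hcov in
theorem cl_pow (n : ℕ) : PicF.cl (Twist.twist 𝒜 (l : ℤ)) ^ n = PicF.cl (Twist.twist 𝒜 (((n : ℤ)) * l)) := by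
  induction n with
  | zero =>
    obtain ⟨e⟩ := nonempty_zero_iso 𝒜
    rw [pow_zero, Nat.cast_zero, zero_mul, H23.PicMul.cl_eq_iff.2 ⟨e⟩]
    exact one_def
  | succ n ih =>
    obtain ⟨e⟩ := nonempty_tensor_iso g hg hcov (n : ℤ) 1
    rw [pow_succ, ih]
    have h1 := H23.PicMul.cl_eq_iff.2 ⟨e⟩
    rw [H23.PicMul.cl_tensor, one_mul] at h1
    rw [h1, Nat.cast_succ, add_mul, one_mul]

end Cover

variable (𝒜) in
/-- A covering degree for a Noetherian graded ring. -/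
theorem exists_cover [IsNoetherianRing A] :
    ∃ (l : ℕ), 0 < l ∧ CompactSpace (Proj 𝒜) ∧ (⨆ h : 𝒜 l, Proj.basicOpen 𝒜 (h : A)) = ⊤ := by
  classical
  let S : Set A := ⋃ i : ℕ, (𝒜 (i + 1) : Set A)
  have hirr : (HomogeneousIdeal.irrelevant 𝒜).toIdeal ≤ Ideal.span S := by
    intro z hz
    rw [← DirectSum.sum_support_decompose 𝒜 z]
    refine Ideal.sum_mem _ fun c hc => ?_
    rcases c with _ | c
    · convert! Ideal.zero_mem _
    · exact Ideal.subset_span (Set.mem_iUnion.2 ⟨c, SetLike.coe_mem _⟩)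
  obtain ⟨T, hTS, hT⟩ := (Submodule.fg_span_iff_fg_span_finset_subset S).1
    (IsNoetherian.noetherian (Submodule.span A S))
  choose d hd using fun t : T => Set.mem_iUnion.1 (hTS t.2)
  have hcov : ⨆ t : T, Proj.basicOpen 𝒜 (t : A) = ⊤ := Proj.iSup_basicOpen_eq_top 𝒜 _ (by
    refine hirr.trans ((le_of_eq hT).trans (Ideal.span_mono ?_))
    exact fun t ht => ⟨⟨t, ht⟩, rfl⟩)
  refine ⟨∏ t : T, (d t + 1), Finset.prod_pos fun t _ => Nat.succ_pos _, ⟨?_⟩, top_le_iff.1 ?_⟩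
  · have h := isCompact_iUnion fun t : T =>
      (Proj.isAffineOpen_basicOpen 𝒜 (t : A) (hd t) (Nat.succ_pos _)).isCompact
    rw [← Opens.coe_iSup, hcov] at h
    exact h
  · intro x hx
    obtain ⟨t, ht⟩ := Opens.mem_iSup.1 (hcov.ge hx)
    obtain ⟨c, hc⟩ : d t + 1 ∣ ∏ t : T, (d t + 1) := Finset.dvd_prod_of_mem _ (Finset.mem_univ t)
    refine Opens.mem_iSup.2 ⟨⟨(t : A) ^ c, ?_⟩, fun h => ht (x.isPrime.mem_of_pow_mem _ h)⟩
    rw [hc, mul_comm]
    simpa using SetLike.pow_mem_graded c (hd t)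

/-- Coherent modules are quotients of sums of twists. -/
theorem exists_epi_twists [IsNoetherianRing A] {F : (Proj 𝒜).Modules} (hF : Coh.IsCoh F) :
    ∃ (r : ℕ) (d : Fin r → ℤ) (φ : (∐ fun j : Fin r => Twist.twist 𝒜 (d j)) ⟶ F), Epi φ := by
  obtain ⟨l, hl, _, hcov⟩ := exists_cover 𝒜
  let g : 𝒜 l → A := fun h => h
  have hg : ∀ j, g j ∈ 𝒜 l := fun j => j.2
  have hamp := H9Twist.isAmple hl hcov
  obtain ⟨n₀, hn₀⟩ := AmpleX.eventually_generated_fin hamp hF.1 hF.2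
  obtain ⟨G, iG, k, s, hs⟩ := hn₀ n₀ le_rfl
  obtain ⟨p, hp⟩ := InvX.exists_epi_freeMod hs
  let D := Twist.twist 𝒜 (-(n₀ : ℤ) * l)
  obtain ⟨e⟩ : Nonempty (CohB1.tensorMod (CohB1.tensorMod F (CohB1.tensorPow (Twist.twist 𝒜 (l : ℤ)) n₀)) D ≅ F) := by
    refine H23.PicMul.cl_eq_iff.1 ?_
    obtain ⟨e⟩ := nonempty_tensor_iso g hg hcov (n₀ : ℤ) (-(n₀ : ℤ))
    obtain ⟨e₀⟩ := nonempty_zero_iso 𝒜
    have h1 := H23.PicMul.cl_eq_iff.2 ⟨e⟩
    rw [H23.PicMul.cl_tensor, neg_mul, add_neg_cancel, H23.PicMul.cl_eq_iff.2 ⟨e₀⟩, ← one_def] at h1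
    rw [H23.PicMul.cl_tensor, H23.PicMul.cl_tensor, H23.PicMul.cl_tensorPow, cl_pow g hg hcov, mul_assoc]
    show _ * (_ * PicF.cl (Twist.twist 𝒜 (-(n₀ : ℤ) * l))) = _
    rw [neg_mul, h1, mul_one]
  let T : (Proj 𝒜).Modules ⥤ (Proj 𝒜).Modules := DCoh.tensorBi.flip.obj D
  haveI : PreservesColimitsOfSize.{u, u} T := inferInstanceAs (PreservesColimitsOfSize.{u, u} ((DCoh.tensorBi (X := Proj 𝒜)).flip.obj D))
  haveI : PreservesColimitsOfSize.{0, 0} T := preservesColimitsOfSize_shrink.{0, u, 0, u} T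
  refine ⟨k, fun _ => -(n₀ : ℤ) * l, ?_, ?_⟩
  · exact (Sigma.mapIso fun _ => ((Nonempty.some (tensor_one_left D)).symm)).hom ≫
      sigmaComparison T (fun _ : Fin k => Coh.structureModule (Proj 𝒜)) ≫ T.map (p ≫ iG.hom) ≫ e.hom
  · haveI : Epi (p ≫ iG.hom) := epi_comp _ _
    infer_instance

end Groth.Agent.ProjSerre

end
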